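import Groth.Agent.Lib.SmoothDesc24.GmLocal
import Groth.Agent.S0536

/-! Cocycles congruent to one modulo a henselian ideal are coboundaries of cochains congruent to one. -/

universe u

set_option autoImplicit false
set_option linter.unusedSectionVars false
set_option linter.style.haveILetI false
set_option backward.isDefEq.respectTransparency false
set_option backward.isDefEq.respectTransparency.types false

open TensorProduct Groth.Agent.AmitsurCech12

namespace Groth.Agent.SmoothDesc24

variable {R B : Type u} [CommRing R] [CommRing B] [Algebra R B] [Module.Projective R B] [Module.Finite R B]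
  [Module.FaithfullyFlat R B] {m : ℕ} {z : Additive (T R B (m + 1))ˣ}

theorem exists_coboundary_henselian (I : Ideal R) [HenselianRing R I] (hz : IsCocycle R B z)
    (h1 : cst R B (R ⧸ I) (m + 1) z = 0) :
    ∃ b : U R B R m, dU R B R m b = cst R B R (m + 1) z ∧
      uMap (chg (Ideal.Quotient.mkₐ R I) m).toRingHom b = 0 := by
  haveI := formallySmooth_sol hz
  haveI : Algebra.Smooth R (Sol z) := {}
  obtain ⟨σ, hσ, -⟩ := exists_hom (z := z) (0 : U R B (R ⧸ I) m) (by rw [map_zero, h1])
  obtain ⟨τ, hτ⟩ := Groth.Agent.S0536.result R (Sol z) R I σ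
  obtain ⟨b, hb, hbg⟩ := exists_sol τ
  refine ⟨b, hb, Additive.toMul.injective (Units.ext ?_)⟩
  show chg (Ideal.Quotient.mkₐ R I) m ((Additive.toMul b : (TS R B R m)ˣ) : TS R B R m) = 1
  rw [hbg, ← sum_coord (1 : TS R B (R ⧸ I) m), chg_gen, map_sum]
  refine Finset.sum_congr rfl fun i _ => ?_
  show (Ideal.Quotient.mkₐ R I).comp τ (Ideal.Quotient.mk _ (MvPolynomial.X (Sum.inl i))) ⊗ₜ[R] bas m i = _
  rw [hτ, hσ]
  rfl

end Groth.Agent.SmoothDesc24
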