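import Groth.Agent.Lib.GmHens24.Units

/-! Units lift along closed immersions, locally. -/

universe u

open CategoryTheory CategoryTheory.Limits AlgebraicGeometry Opposite
open Groth.Agent.SmoothDesc24 (uMap uMap_uMap)

set_option linter.style.haveILetI false
set_option linter.unusedSectionVars false
set_option backward.isDefEq.respectTransparency false
set_option backward.isDefEq.respectTransparency.types false

namespace Groth.Agent.GmHens24

variable {X Y : Scheme.{u}}

theorem subsingleton_sections_empty' (F : EtCoh.Ab X) (Z : X.Etale) [IsEmpty Z.left] :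
    Subsingleton (F.obj.obj (op Z)) :=
  ⟨fun a b => CmpBig24.sep (S := ⊥) ((EtSite.mem_et_iff Z ⊥).2 fun x => isEmptyElim x) a b
    fun _ _ hf => False.elim hf⟩

theorem isUnit_of_basicOpen_eq_top (Z : Scheme.{u}) (f : Γ(Z, ⊤)) (h : Z.basicOpen f = ⊤) : IsUnit f := by
  refine RingedSpace.isUnit_of_isUnit_germ Z.toLocallyRingedSpace.toRingedSpace ⊤ f fun x _ => ?_
  exact (Scheme.mem_basicOpen_top _ f x).1 (by rw [h]; trivial)

theorem exists_unit_lift (u : Y ⟶ X) [IsClosedImmersion u] (V : X.Etale) [IsAffine V.left]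
    (t : Γ(pullback V.hom u, ⊤)ˣ) :
    ∃ a : Γ(V.left, ⊤), (pullback.fst V.hom u).appTop a = t ∧ Set.range (pullback.fst V.hom u) ⊆ (V.left.basicOpen a : Set V.left) := by
  haveI : IsAffine ((𝟭 Scheme).obj V.left) := ‹IsAffine V.left›
  obtain ⟨a, ha⟩ := (IsClosedImmersion.isAffine_surjective_of_isAffine (pullback.fst V.hom u)).2 (t : Γ(pullback V.hom u, ⊤))
  refine ⟨a, ha, ?_⟩
  rintro _ ⟨z, rfl⟩
  have h : pullback.fst V.hom u ⁻¹ᵁ V.left.basicOpen a = ⊤ := by
    refine (Scheme.preimage_basicOpen_top _ _).trans ?_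
    erw [ha]
    exact Scheme.basicOpen_of_isUnit _ t.isUnit
  show z ∈ pullback.fst V.hom u ⁻¹ᵁ V.left.basicOpen a
  rw [h]; trivial

theorem epi_GmPush (u : Y ⟶ X) [IsClosedImmersion u] : Epi (EtLim.GmPush u) := by
  rw [CmpBig24.epi_iff_lifts]
  intro V s
  refine (EtSite.mem_et_iff _ _).2 fun v => ?_
  haveI : IsClosedImmersion (pullback.fst V.hom u) :=
    MorphismProperty.pullback_fst (P := @IsClosedImmersion) _ _ inferInstance
  by_cases hv : v ∈ Set.range (pullback.fst V.hom u)
  · obtain ⟨W, hW, hvW, -⟩ := exists_isAffineOpen_mem_and_subset (X := V.left) (x := v) (U := ⊤) trivial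
    let V' := EtSite.sub V W
    let e : V' ⟶ V := EtSite.subHom V W
    haveI : IsAffine V'.left := hW
    let s' := ((EtCoh.push u).obj (EtCoh.Gm Y)).obj.map e.op s
    obtain ⟨a, ha, hrange⟩ := exists_unit_lift u V' (Additive.toMul s'.down)
    let V'' := EtSite.sub V' (V'.left.basicOpen a)
    let e' : V'' ⟶ V' := EtSite.subHom V' _
    have hau : IsUnit (e'.left.appTop a) := by
      have h : e'.left ⁻¹ᵁ V'.left.basicOpen a = ⊤ := eq_top_iff.2 fun z _ => z.2
      rw [Scheme.preimage_basicOpen_top] at h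
      exact isUnit_of_basicOpen_eq_top _ _ h
    obtain ⟨z, hz⟩ := hv
    obtain ⟨z', hz', -⟩ := Scheme.Pullback.exists_preimage_pullback (f := V'.hom) (g := u) (⟨v, hvW⟩ : W)
      (pullback.snd V.hom u z) (by
        show V.hom (W.ι ⟨v, hvW⟩) = u _
        rw [← Scheme.Hom.comp_apply, ← pullback.condition, Scheme.Hom.comp_apply, hz]
        rfl)
    refine ⟨V'', e' ≫ e, ⟨(⟨v, hvW⟩ : W), hrange ⟨z', hz'⟩⟩,
      ⟨ofU (Additive.ofMul hau.unit), ?_⟩, rfl⟩
    rw [op_comp, Functor.map_comp_apply]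
    refine ULift.ext _ _ (Additive.toMul.injective (Units.ext ?_))
    show (pullback.fst V''.hom u).appTop.hom (e'.left.appTop a) =
      ((EtCoh.bc u).map e').left.appTop.hom ((Additive.toMul s'.down : Γ(pullback V'.hom u, ⊤)ˣ) : Γ(pullback V'.hom u, ⊤))
    rw [← ha]
    show (e'.left.appTop ≫ (pullback.fst V''.hom u).appTop) a =
      ((pullback.fst V'.hom u).appTop ≫ ((EtCoh.bc u).map e').left.appTop) a
    erw [← Scheme.Hom.comp_appTop, ← Scheme.Hom.comp_appTop, (EtCoh.isPullback_bc_map u e').w]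
    rfl
  · let O : V.left.Opens := ⟨(Set.range (pullback.fst V.hom u))ᶜ,
      (pullback.fst V.hom u).isClosedEmbedding.isClosed_range.isOpen_compl⟩
    let V' := EtSite.sub V O
    haveI : IsEmpty ((EtCoh.bc u).obj V').left := ⟨fun z => by
      have hw := (EtCoh.isPullback_bc_map u (EtSite.subHom V O)).w
      exact ((pullback.fst V'.hom u) z).2 ⟨((EtCoh.bc u).map (EtSite.subHom V O)).left z, by
        refine (Scheme.Hom.comp_apply _ _ _).symm.trans ?_
        rw [hw]
        exact Scheme.Hom.comp_apply _ _ _⟩⟩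
    refine ⟨V', EtSite.subHom V O, (⟨v, hv⟩ : O), ⟨0, ?_⟩, rfl⟩
    exact (subsingleton_sections_empty' (EtCoh.Gm Y) ((EtCoh.bc u).obj V')).elim _ _

end Groth.Agent.GmHens24
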