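import Groth.Agent.Lib.HensPoint24.Lift
import Groth.Agent.Lib.FieldH25.Sections
import Groth.Agent.Lib.Hens.Local
import Groth.Agent.Lib.EtSite.Sheaf
import Groth.Prelude.Def_EtBase
import Mathlib.RingTheory.Etale.Pi
import Mathlib.Topology.Separation.Basic

/-! Étale covers of finite étale objects over a henselian local ring are refined by finite étale covers. -/

universe u

open CategoryTheory CategoryTheory.Limits AlgebraicGeometry Opposite IsLocalRing

set_option linter.style.haveILetI false
set_option linter.unusedSectionVars false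
set_option backward.isDefEq.respectTransparency false
set_option backward.isDefEq.respectTransparency.types false

namespace Groth.Agent.GmHens24

variable {R : Type u} [CommRing R] [HenselianLocalRing R]

local notation "X₀" => Spec (CommRingCat.of R)

/-- the object of a finite étale algebra -/
noncomputable def obj (B : Type u) [CommRing B] [Algebra R B] [Algebra.Etale R B] : (X₀).Etale :=
  haveI : Etale (Spec.map (CommRingCat.ofHom (algebraMap R B))) :=
    (HasRingHomProperty.Spec_iff (P := @Etale)).2 (RingHom.etale_algebraMap.2 inferInstance)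
  Scheme.Etale.mk (Spec.map (CommRingCat.ofHom (algebraMap R B)))

theorem isFinite_obj (B : Type u) [CommRing B] [Algebra R B] [Algebra.Etale R B] [Module.Finite R B] :
    IsFinite (obj (R := R) B).hom :=
  (IsFinite.SpecMap_iff _).2 (RingHom.finite_algebraMap.2 inferInstance)

theorem etale_left {U V : (X₀).Etale} (f : V ⟶ U) : Etale f.left := by
  haveI : Etale (f.left ≫ U.hom) := by rw [MorphismProperty.Over.w f]; exact V.prop
  haveI : Etale U.hom := U.prop
  exact Etale.of_comp f.left U.hom

theorem isFinite_left {U V : (X₀).Etale} (f : V ⟶ U) [IsFinite U.hom] [IsFinite V.hom] : IsFinite f.left := by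
  haveI : IsFinite (f.left ≫ U.hom) := by rw [MorphismProperty.Over.w f]; infer_instance
  haveI : IsSeparated U.hom := inferInstance
  exact IsFinite.of_comp f.left U.hom

/-- a local finite étale neighbourhood of a point over the closed point, inside a given étale scheme -/
theorem exists_local_nbhd (Y : (X₀).Etale) (y : Y.left) (hy : Y.hom y = closedPoint R) :
    ∃ (B : Type u) (_ : CommRing B) (_ : Algebra R B) (_ : Algebra.Etale R B) (_ : Module.Finite R B)
      (v : obj (R := R) B ⟶ Y), y ∈ Set.range v.left := by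
  let k := ResidueField R
  let i₀ : Spec (CommRingCat.of k) ⟶ X₀ := Spec.map (CommRingCat.ofHom (IsLocalRing.residue R))
  have h0 : ∀ z, i₀ z = closedPoint R := fun z => by
    obtain rfl : z = closedPoint k := Subsingleton.elim _ _
    exact IsLocalRing.comap_closedPoint (IsLocalRing.residue R)
  obtain ⟨y', hy', -⟩ := Scheme.Pullback.exists_preimage_pullback (f := Y.hom) (g := i₀) y (closedPoint k)
    (hy.trans (h0 _).symm)
  obtain ⟨L, _, _, _, _, m, hm⟩ := FieldH25.exists_ext_point (k := k) ((EtCoh.bc i₀).obj Y) y'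
  obtain ⟨z₀, hz₀⟩ := hm
  let a : Spec (CommRingCat.of L) ⟶ Y.left := m.left ≫ pullback.fst Y.hom i₀
  have haY : a ≫ Y.hom = Spec.map (CommRingCat.ofHom (algebraMap k L)) ≫ i₀ := by
    simp only [a, Category.assoc, pullback.condition]
    rw [← Category.assoc]
    exact congrArg (· ≫ i₀) (MorphismProperty.Over.w m)
  have hay : a z₀ = y := by
    simp only [a, Scheme.Hom.comp_apply]
    erw [hz₀]
    exact hy'
  obtain ⟨B, p, j, hpf, hpe, hps, hsq⟩ := HensPoint24.exists_finite_etale_lift R L
  letI : Algebra R B := (Spec.preimage p).hom.toAlgebra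
  have hp : p = Spec.map (CommRingCat.ofHom (algebraMap R B)) := (Spec.map_preimage p).symm
  haveI : Algebra.Etale R B := RingHom.etale_algebraMap.1
    ((HasRingHomProperty.Spec_iff (P := @Etale)).1 (hp ▸ hpe))
  haveI : Module.Finite R B := RingHom.finite_algebraMap.1 ((IsFinite.SpecMap_iff _).1 (hp ▸ hpf))
  haveI : IsClosedImmersion i₀ := IsClosedImmersion.spec_of_surjective _ IsLocalRing.residue_surjective
  haveI hj : IsClosedImmersion j :=
    MorphismProperty.of_isPullback (P := @IsClosedImmersion) hsq.flip inferInstance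
  -- every closed point of `Spec B` is the image of the point of `L`
  have hone : ∀ P : Ideal B, P.IsMaximal → ∀ hP : P.IsPrime, (⟨P, hP⟩ : PrimeSpectrum B) = j z₀ := fun P hP hP' => by
    haveI := hP
    have h1 : p ⟨P, hP'⟩ = i₀ (closedPoint k) := by
      rw [h0, hp]
      haveI : Algebra.IsIntegral R B := Algebra.IsIntegral.of_finite R B
      exact PrimeSpectrum.ext (IsLocalRing.eq_maximalIdeal
        (Ideal.isMaximal_comap_of_isIntegral_of_isMaximal (R := R) P))
    obtain ⟨w, hw, -⟩ := Scheme.Pullback.exists_preimage_pullback _ _ h1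
    have h2 := congrArg (fun q : pullback p i₀ ⟶ Spec B => q w) hsq.isoPullback_inv_fst
    refine Eq.trans ?_ (congrArg j (Subsingleton.elim (hsq.isoPullback.inv w) z₀))
    rw [← hw]
    exact h2.symm
  haveI : Nontrivial B := by
    by_contra hB
    rw [not_nontrivial_iff_subsingleton] at hB
    exact (j z₀).isPrime.ne_top (Subsingleton.elim _ _)
  haveI : IsLocalRing B := IsLocalRing.of_unique_max_ideal (by
    obtain ⟨P, hP⟩ := Ideal.exists_maximal B
    exact ⟨P, hP, fun Q hQ => congrArg PrimeSpectrum.asIdeal ((hone Q hQ hQ.isPrime).trans (hone P hP hP.isPrime).symm)⟩)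
  haveI : Algebra.IsIntegral R B := Algebra.IsIntegral.of_finite R B
  haveI : HenselianLocalRing B := Hens.henselianLocalRing_of_isIntegral R B
  obtain ⟨W, hW, hyW, -⟩ := exists_isAffineOpen_mem_and_subset (X := Y.left) (x := y) (U := ⊤) trivial
  have ha : Set.range a ⊆ Set.range hW.fromSpec := by
    rw [hW.range_fromSpec]
    rintro _ ⟨z, rfl⟩
    obtain rfl : z = z₀ := Subsingleton.elim _ _
    rw [hay]; exact hyW
  let c : CommRingCat.of R ⟶ Γ(Y.left, W) := Spec.preimage (hW.fromSpec ≫ Y.hom)
  letI : Algebra R Γ(Y.left, W) := c.hom.toAlgebra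
  haveI : Algebra.Etale R Γ(Y.left, W) := by
    haveI : Etale Y.hom := Y.prop
    haveI : Etale (Spec.map c) := by rw [Spec.map_preimage]; infer_instance
    exact RingHom.etale_algebraMap.1 ((HasRingHomProperty.Spec_iff (P := @Etale)).1 ‹_›)
  let s : Γ(Y.left, W) ⟶ CommRingCat.of L := Spec.preimage (IsOpenImmersion.lift hW.fromSpec a ha)
  let φ : B ⟶ CommRingCat.of L := Spec.preimage j
  have hφ : Function.Surjective φ.hom := by
    haveI : IsClosedImmersion (Spec.map φ) := by rw [Spec.map_preimage]; exact hj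
    have h := (IsClosedImmersion.isAffine_surjective_of_isAffine (Spec.map φ)).2
    have e : φ = (Scheme.ΓSpecIso B).inv ≫ (Spec.map φ).appTop ≫ (Scheme.ΓSpecIso (CommRingCat.of L)).hom := by
      rw [Scheme.ΓSpecIso_naturality, Iso.inv_hom_id_assoc]
    rw [e]
    exact ((ConcreteCategory.bijective_of_isIso (Scheme.ΓSpecIso (CommRingCat.of L)).hom).2.comp h).comp
      (ConcreteCategory.bijective_of_isIso (Scheme.ΓSpecIso B).inv).2
  have hker : RingHom.ker φ.hom = maximalIdeal B :=
    IsLocalRing.eq_maximalIdeal (RingHom.ker_isMaximal_of_surjective φ.hom hφ)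
  have hcs : c ≫ s = CommRingCat.ofHom (algebraMap R B) ≫ φ := Spec.map_injective (by
    rw [Spec.map_comp, Spec.map_comp, Spec.map_preimage, Spec.map_preimage, Spec.map_preimage, ← hp,
      IsOpenImmersion.lift_fac_assoc, haY]
    exact hsq.w.symm)
  let e : B ⧸ maximalIdeal B ≃+* L :=
    (Ideal.quotEquivOfEq hker.symm).trans (RingHom.quotientKerEquivOfSurjective hφ)
  have he : ∀ b, e (Ideal.Quotient.mk _ b) = φ.hom b := fun b => rfl
  let σ : Γ(Y.left, W) →ₐ[R] B ⧸ maximalIdeal B :=
    { (e.symm.toRingHom).comp s.hom with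
      commutes' := fun r => e.injective (by
        show e (e.symm (s.hom (c.hom r))) = e (Ideal.Quotient.mk _ (algebraMap R B r))
        rw [e.apply_symm_apply, he]
        exact RingHom.congr_fun (congrArg CommRingCat.Hom.hom hcs) r) }
  obtain ⟨τ, hτ, -⟩ := Hens.existsUnique_algHom_lift (Hens.henselianRing_maximalIdeal B) σ
  have hw : (Spec.map (CommRingCat.ofHom τ.toRingHom) ≫ hW.fromSpec) ≫ Y.hom = (obj (R := R) B).hom := by
    show _ = Spec.map (CommRingCat.ofHom (algebraMap R B))
    rw [Category.assoc, ← Spec.map_preimage (hW.fromSpec ≫ Y.hom), ← Spec.map_comp]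
    exact congrArg Spec.map (CommRingCat.hom_ext (RingHom.ext fun r => τ.commutes r))
  refine ⟨B, inferInstance, inferInstance, inferInstance, inferInstance,
    MorphismProperty.Over.homMk (Spec.map (CommRingCat.ofHom τ.toRingHom) ≫ hW.fromSpec) hw, j z₀, ?_⟩
  refine Eq.trans (Scheme.Hom.comp_apply j (Spec.map (CommRingCat.ofHom τ.toRingHom) ≫ hW.fromSpec) z₀).symm ?_
  rw [← Category.assoc]
  have hs : j ≫ Spec.map (CommRingCat.ofHom τ.toRingHom) = IsOpenImmersion.lift hW.fromSpec a ha := by
    rw [← Spec.map_preimage j, ← Spec.map_preimage (IsOpenImmersion.lift hW.fromSpec a ha), ← Spec.map_comp]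
    refine congrArg Spec.map (CommRingCat.hom_ext (RingHom.ext fun x => ?_))
    have h := congrArg e (AlgHom.congr_fun hτ x)
    exact h.trans (e.apply_symm_apply _)
  rw [hs, IsOpenImmersion.lift_fac, hay]

/-- the refinement of a covering by a finite étale surjection -/
structure Refinement {P : (X₀).Etale} (S : Sieve P) where
  /-- the source -/
  W : (X₀).Etale
  /-- the map -/
  g : W ⟶ P
  finW : IsFinite W.hom
  surj : Surjective g.left
  /-- the index type -/
  κ : Type u
  /-- the pieces -/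
  V : κ → (X₀).Etale
  /-- their inclusions -/
  ι : ∀ l, V l ⟶ W
  mem : ∀ l, S (ι l ≫ g)
  isOpen : ∀ l, IsOpenImmersion (ι l).left
  cover : ∀ w : W.left, ∃ l, w ∈ Set.range (ι l).left
  disj : ∀ l l' a b, (ι l).left a = (ι l').left b → l = l'

theorem nonempty_refinement (P : (X₀).Etale) [IsFinite P.hom] (S : Sieve P)
    (hS : S ∈ (X₀).smallEtaleTopology P) : Nonempty (Refinement S) := by
  classical
  haveI : IsAffine ((Functor.fromPUnit (Spec (CommRingCat.of R))).obj P.right) := inferInstanceAs (IsAffine (Spec (CommRingCat.of R)))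
  haveI : IsAffine P.left := isAffine_of_isAffineHom P.hom
  rw [EtSite.mem_et_iff] at hS
  have hcl : ∀ y : P.left, IsClosed ({y} : Set P.left) →
      ∃ (B : Type u) (_ : CommRing B) (_ : Algebra R B) (_ : Algebra.Etale R B) (_ : Module.Finite R B)
        (v : obj (R := R) B ⟶ P), S v ∧ y ∈ Set.range v.left := fun y hy => by
    have hy' : P.hom y = closedPoint R := by
      have h : IsClosed ({P.hom y} : Set X₀) := by
        rw [← Set.image_singleton]; exact P.hom.isClosedMap _ hy
      exact PrimeSpectrum.ext (IsLocalRing.eq_maximalIdeal ((PrimeSpectrum.isClosed_singleton_iff_isMaximal _).1 h))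
    obtain ⟨Y, f, y₀, hf, hy₀⟩ := hS y
    obtain ⟨B, _, _, _, _, v, hv⟩ := exists_local_nbhd Y y₀ (by
      rw [← hy', ← hy₀]
      exact (congrArg (fun q : Y.left ⟶ _ => q y₀) (MorphismProperty.Over.w f)).symm.trans (Scheme.Hom.comp_apply _ _ _))
    obtain ⟨b, hb⟩ := hv
    refine ⟨B, inferInstance, inferInstance, inferInstance, inferInstance, v ≫ f, S.downward_closed hf v, b, ?_⟩
    show (v.left ≫ f.left) b = y
    rw [Scheme.Hom.comp_apply, hb, hy₀]
  choose B iC iA iE iF v hv hvy using hcl
  let C := {y : P.left // IsClosed ({y} : Set P.left)}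
  let U : C → Set P.left := fun y => Set.range (v y.1 y.2).left
  have hU : ∀ y, IsOpen (U y) := fun y => by
    haveI := etale_left (v y.1 y.2)
    exact (v y.1 y.2).left.isOpenMap.isOpen_range
  have hcov : (Set.univ : Set P.left) ⊆ ⋃ y, U y := fun x _ => by
    by_contra hx
    obtain ⟨y, hy, hyc⟩ := (isOpen_iUnion hU).isClosed_compl.exists_closed_singleton ⟨x, hx⟩
    exact hy (Set.mem_iUnion.2 ⟨⟨y, hyc⟩, hvy y hyc⟩)
  obtain ⟨t, ht⟩ := isCompact_univ.elim_finite_subcover U hU hcov
  let κ : Type u := {y : C // y ∈ t}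
  let Bl : κ → Type u := fun l => B l.1.1 l.1.2
  letI : ∀ l, CommRing (Bl l) := fun l => iC _ _
  letI : ∀ l, Algebra R (Bl l) := fun l => iA _ _
  haveI : ∀ l, Algebra.Etale R (Bl l) := fun l => iE _ _
  haveI : ∀ l, Module.Finite R (Bl l) := fun l => iF _ _
  let σ := sigmaSpec fun l => CommRingCat.of (Bl l)
  haveI : IsIso σ := inferInstanceAs (IsIso (sigmaSpec _))
  let W := obj (R := R) (∀ l, Bl l)
  have hι : ∀ l, Spec.map (CommRingCat.ofHom (Pi.evalRingHom Bl l)) ≫
      Spec.map (CommRingCat.ofHom (algebraMap R (∀ l, Bl l))) = Spec.map (CommRingCat.ofHom (algebraMap R (Bl l))) :=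
    fun l => by rw [← Spec.map_comp]; rfl
  let ι : ∀ l, obj (R := R) (Bl l) ⟶ W := fun l =>
    MorphismProperty.Over.homMk (Spec.map (CommRingCat.ofHom (Pi.evalRingHom Bl l))) (hι l)
  let d : (∐ fun l => Spec (CommRingCat.of (Bl l))) ⟶ P.left := Sigma.desc fun l => (v l.1.1 l.1.2).left
  have hσ : ∀ l, Spec.map (CommRingCat.ofHom (Pi.evalRingHom Bl l)) ≫ inv σ ≫ d = (v l.1.1 l.1.2).left := fun l => by
    rw [← ι_sigmaSpec (fun l => CommRingCat.of (Bl l)) l, Category.assoc, IsIso.hom_inv_id_assoc]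
    exact Sigma.ι_desc _ _
  let g : W ⟶ P := MorphismProperty.Over.homMk (inv σ ≫ d) (by
    show (inv σ ≫ d) ≫ P.hom = Spec.map (CommRingCat.ofHom (algebraMap R (∀ l, Bl l)))
    rw [Category.assoc, IsIso.inv_comp_eq]
    refine Sigma.hom_ext _ _ fun l => ?_
    rw [← Category.assoc, ← Category.assoc]
    erw [Sigma.ι_desc]
    rw [ι_sigmaSpec]
    exact (MorphismProperty.Over.w (v l.1.1 l.1.2)).trans (hι l).symm)
  have hιg : ∀ l, ι l ≫ g = v l.1.1 l.1.2 := fun l => MorphismProperty.Over.Hom.ext (hσ l)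
  have hcover : ∀ w : W.left, ∃ (l : κ) (z : Spec (CommRingCat.of (Bl l))),
      σ (Sigma.ι (fun l => Spec (CommRingCat.of (Bl l))) l z) = w := fun w => by
    obtain ⟨l, z, hz⟩ := (sigmaOpenCover fun l => Spec (CommRingCat.of (Bl l))).exists_eq (inv σ w)
    refine ⟨l, z, ?_⟩
    erw [hz]
    rw [← Scheme.Hom.comp_apply, IsIso.inv_hom_id]
    rfl
  refine ⟨{
    W := W, g := g, finW := isFinite_obj _, surj := ⟨fun x => ?_⟩, κ := κ, V := fun l => obj (R := R) (Bl l), ι := ι
    mem := fun l => by rw [hιg]; exact hv _ _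
    isOpen := fun l => ?_
    cover := fun w => ?_
    disj := fun l l' a b hab => ?_ }⟩
  · obtain ⟨l, hl, z, hz⟩ : ∃ l, l ∈ t ∧ x ∈ U l := by simpa using ht (Set.mem_univ x)
    refine ⟨(ι ⟨l, hl⟩).left z, ?_⟩
    show (ι ⟨l, hl⟩ ≫ g).left z = x
    rw [hιg]
    exact hz
  · show IsOpenImmersion (Spec.map (CommRingCat.ofHom (Pi.evalRingHom Bl l)))
    rw [← ι_sigmaSpec (fun l => CommRingCat.of (Bl l)) l]
    infer_instance
  · obtain ⟨l, z, hz⟩ := hcover w
    refine ⟨l, z, ?_⟩
    show Spec.map (CommRingCat.ofHom (Pi.evalRingHom Bl l)) z = w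
    rw [← ι_sigmaSpec (fun l => CommRingCat.of (Bl l)) l]
    exact hz
  · have h : σ (Sigma.ι (fun l => Spec (CommRingCat.of (Bl l))) l a) =
        σ (Sigma.ι (fun l => Spec (CommRingCat.of (Bl l))) l' b) := by
      rw [← Scheme.Hom.comp_apply, ← Scheme.Hom.comp_apply]
      erw [ι_sigmaSpec, ι_sigmaSpec]
      exact hab
    have h' := σ.isOpenEmbedding.injective h
    by_contra hne
    let S₁ := (Sigma.ι (fun l => Spec (CommRingCat.of (Bl l))) l).opensRange
    let S₂ := (Sigma.ι (fun l => Spec (CommRingCat.of (Bl l))) l').opensRange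
    have hd : S₁ ⊓ S₂ = ⊥ := disjoint_iff.1 (disjoint_opensRange_sigmaι (fun l => Spec (CommRingCat.of (Bl l))) l l' hne)
    have hmem : Sigma.ι (fun l => Spec (CommRingCat.of (Bl l))) l a ∈ S₁ ⊓ S₂ := ⟨⟨a, rfl⟩, ⟨b, h'.symm⟩⟩
    rw [hd] at hmem
    exact hmem

end Groth.Agent.GmHens24
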