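import Groth.Agent.Lib.GmHens24.Refine
import Groth.Agent.Lib.ProEtEps19.Cochain
import Groth.Agent.Lib.CmpBig24.Slices
import Groth.Prelude.Def_EtCore

/-! Vanishing over a henselian local ring of sheaves with exact Čech complexes of finite étale surjections. -/

universe u

open CategoryTheory CategoryTheory.Limits AlgebraicGeometry Opposite Abelian
open Groth.Agent.ProEtEps19 (Tup Cochain CechExact)

set_option linter.style.haveILetI false
set_option linter.unusedSectionVars false
set_option backward.isDefEq.respectTransparency false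
set_option backward.isDefEq.respectTransparency.types false

namespace Groth.Agent.GmHens24

variable {R : Type u} [CommRing R] [HenselianLocalRing R]

local notation "X₀" => Spec (CommRingCat.of R)

/-- Čech complexes of finite étale surjections are exact -/
def FEExact (F : EtCoh.Ab X₀) : Prop :=
  ∀ ⦃W P : (X₀).Etale⦄ (g : W ⟶ P), IsFinite W.hom → IsFinite P.hom → Surjective g.left →
    CechExact g F.obj

theorem isPullback_left {A B C D : (X₀).Etale} {a : A ⟶ B} {b : A ⟶ C} {c : B ⟶ D} {d : C ⟶ D}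
    (h : IsPullback a b c d) : IsPullback a.left b.left c.left d.left :=
  h.map (Scheme.Etale.forget X₀ ⋙ Over.forget X₀)

theorem isFinite_pullback {A B D : (X₀).Etale} (c : A ⟶ D) (d : B ⟶ D) [IsFinite A.hom] [IsFinite B.hom]
    [IsFinite D.hom] : IsFinite (pullback c d).hom := by
  haveI := isFinite_left c
  haveI : IsFinite (pullback.snd c d).left :=
    MorphismProperty.of_isPullback (P := @IsFinite) (isPullback_left (IsPullback.of_hasPullback c d)) inferInstance
  rw [← MorphismProperty.Over.w (pullback.snd c d)]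
  infer_instance

/-- powers of finite étale maps -/
theorem exists_pow {W P : (X₀).Etale} (g : W ⟶ P) [IsFinite W.hom] [IsFinite P.hom] : ∀ n : ℕ,
    ∃ p : ProEtEps19.Pow g n, IsFinite p.R.hom := by
  intro n
  induction n with
  | zero =>
    refine ⟨⟨W, ⟨fun _ => 𝟙 W, fun _ => rfl⟩, fun x => x.1 0, fun x => Subtype.ext (funext fun k => ?_),
      fun a b h => ?_⟩, ‹_›⟩
    · obtain rfl : k = 0 := Fin.fin_one_eq_zero k
      exact Category.comp_id _
    · simpa [Tup.comp] using congrArg (fun x => x.1 0) h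
  | succ n ih =>
    obtain ⟨p, hrf⟩ := ih
    let r := p.u.1 0 ≫ g
    refine ⟨⟨pullback g r, ⟨Fin.cons (pullback.fst g r) fun k => pullback.snd g r ≫ p.u.1 k, ?_⟩,
      fun x => pullback.lift (x.1 0) (p.lift (x.face 0)) ?_,
      fun x => ?_, fun a b h => ?_⟩, isFinite_pullback g r⟩
    · intro k
      induction k using Fin.cases with
      | zero => rfl
      | succ k =>
        simp only [Fin.cons_succ, Fin.cons_zero, Category.assoc]
        rw [p.u.2 k, pullback.condition]
    · have h := congrArg (fun q => q.1 0 ≫ g) (p.fac (x.face 0))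
      simp only [Tup.comp, Category.assoc] at h
      rw [h]
      exact (x.2 _).symm
    · refine Subtype.ext (funext fun k => ?_)
      induction k using Fin.cases with
      | zero => simp [Tup.comp]
      | succ k =>
        simp only [Tup.comp, Fin.cons_succ]
        rw [pullback.lift_snd_assoc]
        have h := congrArg (fun q => q.1 k) (p.fac (x.face 0))
        simpa [Tup.comp, Tup.face] using h
    · refine pullback.hom_ext ?_ (p.hom_ext _ _ (Subtype.ext (funext fun k => ?_)))
      · simpa [Tup.comp] using congrArg (fun q => q.1 0) h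
      · simpa [Tup.comp] using congrArg (fun q => q.1 k.succ) h

theorem subsingleton_sections_empty (F : EtCoh.Ab X₀) (Z : (X₀).Etale) [IsEmpty Z.left] :
    Subsingleton (F.obj.obj (op Z)) :=
  ⟨fun a b => CmpBig24.sep (S := ⊥) ((EtSite.mem_et_iff Z ⊥).2 fun x => isEmptyElim x) a b
    fun _ _ hf => False.elim hf⟩

theorem app_zero {A B C : EtCoh.Ab (Spec (CommRingCat.of R))} {φ : A ⟶ B} {ψ : B ⟶ C} (e : φ ≫ ψ = 0)
    (U : (Spec (CommRingCat.of R)).Etale) (s : A.obj.obj (op U)) : ψ.hom.app (op U) (φ.hom.app (op U) s) = 0 :=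
  ConcreteCategory.congr_hom
    (NatTrans.congr_app (congrArg (sheafToPresheaf _ AddCommGrpCat.{u + 1}).map e) (op U)) s

/-- sections glue on a refinement -/
theorem exists_lift_on_refinement {I Q : EtCoh.Ab X₀} (π : I ⟶ Q) {P : (X₀).Etale} (s : Q.obj.obj (op P))
    (Rf : Refinement (Presheaf.imageSieve π.hom s)) :
    ∃ t : I.obj.obj (op Rf.W), π.hom.app (op Rf.W) t = Q.obj.map Rf.g.op s := by
  choose t ht using Rf.mem
  have hcov : Sieve.ofArrows Rf.V Rf.ι ∈ (X₀).smallEtaleTopology Rf.W := by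
    rw [EtSite.mem_et_iff]
    intro w
    obtain ⟨l, v, hv⟩ := Rf.cover w
    exact ⟨_, Rf.ι l, v, Sieve.ofArrows_mk _ _ l, hv⟩
  have hsh := ((isSheaf_iff_isSheaf_of_type _ _).1
    ((Presheaf.isSheaf_iff_isSheaf_forget _ I.obj (forget AddCommGrpCat.{u + 1})).1 I.property)) _ hcov
  rw [← Presieve.isSheafFor_iff_generate] at hsh
  have hcompat : Presieve.Arrows.Compatible (I.obj ⋙ forget AddCommGrpCat.{u + 1}) Rf.ι t := by
    intro l l' Z a a' haa
    by_cases hll : l = l'
    · subst hll
      haveI := Rf.isOpen l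
      have : a = a' := MorphismProperty.Over.Hom.ext ((cancel_mono (Rf.ι l).left).1
        (congrArg (fun q : Z ⟶ Rf.W => q.left) haa))
      rw [this]
    · haveI : IsEmpty Z.left := ⟨fun z => hll (Rf.disj l l' (a.left z) (a'.left z)
        (congrArg (fun q : Z ⟶ Rf.W => q.left z) haa))⟩
      exact (subsingleton_sections_empty I Z).elim _ _
  obtain ⟨u, hu, -⟩ := (Presieve.isSheafFor_arrows_iff _ _).1 hsh t hcompat
  refine ⟨u, CmpBig24.sep hcov _ _ ?_⟩
  rintro Z f ⟨Z', q, g', hg', rfl⟩
  obtain ⟨l⟩ := hg'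
  rw [op_comp, Functor.map_comp_apply, Functor.map_comp_apply]
  refine congrArg (Q.obj.map q.op) ?_
  rw [← NatTrans.naturality_apply, show I.obj.map (Rf.ι l).op u = t l from hu l, ht l, op_comp,
    Functor.map_comp_apply]

variable {K : ShortComplex (EtCoh.Ab (Spec (CommRingCat.of R)))} (hK : K.ShortExact) (hG : FEExact K.X₁)

theorem d_zero {W Y : (X₀).Etale} {g : W ⟶ Y} {P : (X₀).Etaleᵒᵖ ⥤ AddCommGrpCat.{u + 1}} (c : Cochain g P 0)
    (T : (X₀).Etale) (t : Tup g 1 T) : c.d.val T t = c.val T (t.face 0) - c.val T (t.face 1) := by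
  simp [Cochain.d, Fin.sum_univ_two, sub_eq_add_neg]

include hK in
theorem exists_cochain {W Y : (X₀).Etale} {g : W ⟶ Y} {n : ℕ} (c : Cochain g K.X₂.obj n)
    (h : ∀ T x, K.g.hom.app (op T) (c.val T x) = 0) :
    ∃ a : Cochain g K.X₁.obj n, ∀ T x, K.f.hom.app (op T) (a.val T x) = c.val T x := by
  haveI := hK.mono_f
  choose a ha using fun T x => CmpBig24.exists_lift_of_exact K.f K.g K.zero hK.exact (c.val T x) (h T x)
  refine ⟨⟨a, fun {T T'} k x => CmpBig24.sec_injective K.f T' ?_⟩, ha⟩
  rw [NatTrans.naturality_apply, ha, ha, c.nat]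

include hK hG in
/-- sections over finite étale objects lift -/
theorem surjective_of_feExact {P : (X₀).Etale} [hP : IsFinite P.hom] :
    Function.Surjective (K.g.hom.app (op P)) := fun x => by
  haveI := hK.epi_g
  haveI := hK.mono_f
  obtain ⟨Rf⟩ := nonempty_refinement P _ ((CmpBig24.epi_iff_lifts K.g).1 inferInstance P x)
  obtain ⟨t, ht⟩ := exists_lift_on_refinement K.g x Rf
  let g := Rf.g
  let c₀ : Cochain g K.X₂.obj 0 :=
    { val := fun T u => K.X₂.obj.map (u.1 0).op t
      nat := fun h u => by rw [← Functor.map_comp_apply, ← op_comp]; rfl }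
  have hc₀ : ∀ T u, K.g.hom.app (op T) (c₀.val T u) = K.X₃.obj.map (u.1 0 ≫ g).op x := fun T u => by
    show K.g.hom.app (op T) (K.X₂.obj.map (u.1 0).op t) = _
    rw [NatTrans.naturality_apply, ht, ← Functor.map_comp_apply, ← op_comp]
  obtain ⟨a, ha⟩ := exists_cochain hK c₀.d (fun T u => by
    rw [d_zero c₀ T u, map_sub, hc₀, hc₀, sub_eq_zero]
    exact congrArg (fun q => K.X₃.obj.map (Quiver.Hom.op q) x) ((u.2 _).trans (u.2 _).symm))
  have hda : ∀ T u, a.d.val T u = 0 := fun T u => by
    refine CmpBig24.sec_injective K.f T ?_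
    rw [map_zero, ← Cochain.push_d, show a.push K.f.hom = c₀.d from Cochain.ext ha]
    exact Cochain.d_d c₀ T u
  obtain ⟨b, hb⟩ := hG g Rf.finW hP Rf.surj 0 a hda
  let c := c₀.sub (b.push K.f.hom)
  have hc : ∀ T u, c.d.val T u = 0 := fun T u => by
    show (c₀.sub (b.push K.f.hom)).d.val T u = 0
    rw [Cochain.sub_d, Cochain.push_d, hb, ha, sub_self]
  let u₀ : Tup g 0 Rf.W := ⟨fun _ => 𝟙 _, fun _ => rfl⟩
  let w := c.val Rf.W u₀
  have hw : ∀ T (q₁ q₂ : T ⟶ Rf.W), q₁ ≫ g = q₂ ≫ g → K.X₂.obj.map q₁.op w = K.X₂.obj.map q₂.op w := by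
    intro T q₁ q₂ hq
    let u : Tup g 1 T := ⟨![q₁, q₂], fun k => by
      fin_cases k
      · rfl
      · exact hq.symm⟩
    have h0 : (u.face 0) = Tup.comp q₂ u₀ := Subtype.ext (funext fun k => by
      obtain rfl : k = 0 := Fin.fin_one_eq_zero k
      exact (Category.comp_id q₂).symm)
    have h1 : (u.face 1) = Tup.comp q₁ u₀ := Subtype.ext (funext fun k => by
      obtain rfl : k = 0 := Fin.fin_one_eq_zero k
      exact (Category.comp_id q₁).symm)
    have h := hc T u
    erw [d_zero c T u] at h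
    rw [h0, h1, sub_eq_zero, ← c.nat, ← c.nat] at h
    exact h.symm
  have hcov : Sieve.ofArrows (fun _ : PUnit.{1} => Rf.W) (fun _ => g) ∈ (X₀).smallEtaleTopology P := by
    rw [EtSite.mem_et_iff]
    intro y
    obtain ⟨v, hv⟩ := Rf.surj.surj y
    exact ⟨_, g, v, Sieve.ofArrows_mk _ (f := fun _ : PUnit.{1} => g) PUnit.unit, hv⟩
  have hsh := ((isSheaf_iff_isSheaf_of_type _ _).1
    ((Presheaf.isSheaf_iff_isSheaf_forget _ K.X₂.obj (forget AddCommGrpCat.{u + 1})).1 K.X₂.property)) _ hcov
  rw [← Presieve.isSheafFor_iff_generate] at hsh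
  obtain ⟨s, hs, -⟩ := (Presieve.isSheafFor_arrows_iff _ _).1 hsh (fun _ => w) fun _ _ T q₁ q₂ hq => hw T q₁ q₂ hq
  refine ⟨s, CmpBig24.sep hcov _ _ ?_⟩
  rintro T f ⟨T', q, g', hg', rfl⟩
  obtain ⟨i⟩ := hg'
  rw [op_comp, Functor.map_comp_apply, Functor.map_comp_apply]
  refine congrArg (K.X₃.obj.map q.op) ?_
  rw [← NatTrans.naturality_apply, show K.X₂.obj.map g.op s = w from hs i]
  show K.g.hom.app _ (c₀.val Rf.W _ - K.f.hom.app _ (b.val Rf.W u₀)) = _
  have h0 : K.g.hom.app (op Rf.W) (K.f.hom.app (op Rf.W) (b.val Rf.W u₀)) = 0 := app_zero K.zero _ _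
  rw [map_sub, h0, sub_zero, hc₀]
  simp [u₀]

include hK hG in
theorem feExact_quotient [Injective K.X₂] : FEExact K.X₃ := by
  intro W P g hW hP hg
  haveI := hW; haveI := hP; haveI := hK.mono_f
  have hpow : ∀ n, ∃ q : ProEtEps19.Pow g n, IsFinite q.R.hom := fun n => exists_pow g n
  choose p hp using hpow
  haveI : Injective K.X₂.obj :=
    Injective.injective_of_adjoint (sheafificationAdjunction _ AddCommGrpCat.{u + 1}) K.X₂
  exact ProEtEps19.cechExact_quotient K.f.hom K.g.hom (congrArg (fun q => q.hom) K.zero) p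
    (fun n => CmpBig24.sec_injective K.f _)
    (fun n y hy => CmpBig24.exists_lift_of_exact K.f K.g K.zero hK.exact y hy)
    (fun n => haveI := hp n; surjective_of_feExact hK hG)
    (hG g hW hP hg) (ProEtEps19.cechExact_injective.{u + 1} (g := g) (I := K.X₂.obj))

theorem subsingleton_H : ∀ (m : ℕ) (F : EtCoh.Ab X₀), FEExact F → Subsingleton (EtCoh.H X₀ F (m + 1)) := by
  intro m
  induction m with
  | zero =>
    intro F hF
    let S := ShortComplex.mk (Injective.ι F) (cokernel.π (Injective.ι F)) (cokernel.condition _)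
    have hS : S.ShortExact := { exact := ShortComplex.exact_cokernel (Injective.ι F) }
    haveI : Injective S.X₂ := inferInstanceAs (Injective (Injective.under F))
    refine subsingleton_of_forall_eq 0 fun x => ?_
    obtain ⟨z, hz⟩ := Ext.covariant_sequence_exact₁ _ hS x (Ext.eq_zero_of_injective _) (zero_add 1)
    let hT : IsTerminal (EtCoh.top X₀) := EtCore.topIsTerminal X₀
    haveI : IsFinite (EtCoh.top X₀).hom := inferInstanceAs (IsFinite (𝟙 X₀))
    obtain ⟨y, hy⟩ := surjective_of_feExact hS hF (Sheaf.H.equiv₀ S.X₃ hT z)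
    let y' := (Sheaf.H.equiv₀ S.X₂ hT).symm y
    have hyz : y'.comp (Ext.mk₀ S.g) (add_zero 0) = z := (Sheaf.H.equiv₀ S.X₃ hT).injective (by
      refine (Sheaf.H.equiv₀_naturality hT S.g y').symm.trans ?_
      rw [AddEquiv.apply_symm_apply]
      exact hy)
    rw [← hz, ← hyz, Ext.comp_assoc_of_second_deg_zero, hS.comp_extClass, Ext.comp_zero]
  | succ m ih =>
    intro F hF
    let S := ShortComplex.mk (Injective.ι F) (cokernel.π (Injective.ι F)) (cokernel.condition _)
    have hS : S.ShortExact := { exact := ShortComplex.exact_cokernel (Injective.ι F) }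
    haveI : Injective S.X₂ := inferInstanceAs (Injective (Injective.under F))
    refine subsingleton_of_forall_eq 0 fun x => ?_
    obtain ⟨z, hz⟩ := Ext.covariant_sequence_exact₁ _ hS x (Ext.eq_zero_of_injective _) (rfl : m + 1 + 1 = m + 2)
    have h0 : z = 0 := (ih S.X₃ (feExact_quotient hS hF)).elim _ _
    rw [← hz, h0, Ext.zero_comp]

end Groth.Agent.GmHens24
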