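import Groth.Agent.Lib.GmHens24.Coboundary
import Groth.Agent.Lib.GmHens24.Vanish
import Groth.Agent.Lib.SmoothDesc24.Gm
import Groth.Prelude.Def_EtLim
import Mathlib.RingTheory.Flat.EquationalCriterion
import Mathlib.RingTheory.Etale.Basic
import Mathlib.RingTheory.Smooth.Flat

/-! Units congruent to one modulo an ideal of a henselian local ring. -/

universe u

open CategoryTheory CategoryTheory.Limits AlgebraicGeometry Opposite TensorProduct
open Groth.Agent.AmitsurCech12
open Groth.Agent.ProEtEps19 (Tup Cochain CechExact)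
open Groth.Agent.SmoothDesc24 (TS U uMap uMap_uMap Fc dU dU_apply cst IsCocycle γ γ_comp γ_specMap γ_injective
  exists_hom_of_ringHom ringHom_ext exists_ψ chg secEquiv zeroEquiv)

set_option linter.style.haveILetI false
set_option linter.unusedSectionVars false
set_option backward.isDefEq.respectTransparency false
set_option backward.isDefEq.respectTransparency.types false

namespace Groth.Agent.GmHens24

theorem etale_T (A B : Type u) [CommRing A] [CommRing B] [Algebra A B] [Algebra.Etale A B] :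
    ∀ n, Algebra.Etale A (T A B n)
  | 0 => Algebra.Etale.of_equiv (zeroEquiv A B).symm
  | n + 1 => by
    haveI := etale_T A B n
    haveI : Algebra.Etale A (B ⊗[A] T A B n) := Algebra.Etale.comp A B (B ⊗[A] T A B n)
    exact Algebra.Etale.of_equiv (secEquiv A B n).symm

variable {X : Scheme.{u}}

/-- units of the ring of a section of `G_m` -/
noncomputable def toU {V : X.Etale} : (EtCoh.Gm X).obj.obj (op V) →+ Additive Γ(V.left, ⊤)ˣ :=
  AddMonoidHom.mk' (fun s => s.down) fun _ _ => rfl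

/-- the section given by a unit -/
noncomputable def ofU {V : X.Etale} : Additive Γ(V.left, ⊤)ˣ →+ (EtCoh.Gm X).obj.obj (op V) :=
  AddMonoidHom.mk' (fun s => ULift.up s) fun _ _ => rfl

theorem ofU_toU {V : X.Etale} (s : (EtCoh.Gm X).obj.obj (op V)) : ofU (toU s) = s := rfl

theorem toU_map {U V : X.Etale} (h : V ⟶ U) (s : (EtCoh.Gm X).obj.obj (op U)) :
    toU ((EtCoh.Gm X).obj.map h.op s) = uMap h.left.appTop.hom (toU s) := rfl

theorem map_ofU {U V : X.Etale} (h : V ⟶ U) (s : Additive Γ(U.left, ⊤)ˣ) :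
    (EtCoh.Gm X).obj.map h.op (ofU s) = ofU (uMap h.left.appTop.hom s) := rfl

theorem GmPush_app_eq_zero {Y : Scheme.{u}} (u : Y ⟶ X) {V : X.Etale} (s : (EtCoh.Gm X).obj.obj (op V))
    (h : uMap (pullback.fst V.hom u).appTop.hom (toU s) = 0) : (EtLim.GmPush u).hom.app (op V) s = 0 :=
  ULift.ext _ _ h

theorem uMap_fst_of_app_eq_zero {Y : Scheme.{u}} (u : Y ⟶ X) {V : X.Etale} (s : (EtCoh.Gm X).obj.obj (op V))
    (h : (EtLim.GmPush u).hom.app (op V) s = 0) : uMap (pullback.fst V.hom u).appTop.hom (toU s) = 0 :=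
  congrArg ULift.down h

theorem killed_map {Y : Scheme.{u}} (u : Y ⟶ X) {V : X.Etale} (s : (EtCoh.Gm X).obj.obj (op V))
    (h : (EtLim.GmPush u).hom.app (op V) s = 0) {Z : Scheme.{u}} (h₁ : Z ⟶ V.left) (h₂ : Z ⟶ Y)
    (hw : h₁ ≫ V.hom = h₂ ≫ u) : uMap h₁.appTop.hom (toU s) = 0 := by
  have h0 := congrArg (fun t => uMap (pullback.lift h₁ h₂ hw).appTop.hom t) (uMap_fst_of_app_eq_zero u s h)
  rw [uMap_uMap, map_zero, ← CommRingCat.hom_comp, ← Scheme.Hom.comp_appTop, pullback.lift_fst] at h0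
  exact h0

theorem uMap_zero {M M' : Type u} [CommRing M] [CommRing M'] (φ : M →+* M') : uMap φ 0 = 0 := map_zero _

variable {R : Type u} [CommRing R] [HenselianLocalRing R]

set_option maxHeartbeats 3000000 in
theorem feExact_kernel (I : Ideal R) (hI : I ≠ ⊤) :
    FEExact (kernel (EtLim.GmPush (Spec.map (CommRingCat.ofHom (Ideal.Quotient.mk I))))) := by
  intro W P g hW hP hgs n c hc
  haveI := hW; haveI := hP
  let u : Spec (CommRingCat.of (R ⧸ I)) ⟶ Spec (CommRingCat.of R) := Spec.map (CommRingCat.ofHom (Ideal.Quotient.mk I))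
  let κ := kernel.ι (EtLim.GmPush u)
  haveI : IsFinite g.left := isFinite_left g
  haveI : Etale g.left := etale_left g
  haveI : IsAffine ((Functor.fromPUnit (Spec (CommRingCat.of R))).obj P.right) :=
    inferInstanceAs (IsAffine (Spec (CommRingCat.of R)))
  haveI : IsAffine ((Functor.fromPUnit (Spec (CommRingCat.of R))).obj W.right) :=
    inferInstanceAs (IsAffine (Spec (CommRingCat.of R)))
  haveI : IsAffine P.left := isAffine_of_isAffineHom P.hom
  haveI : IsAffine W.left := isAffine_of_isAffineHom W.hom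
  let A : Type u := Γ(P.left, ⊤)
  let B : Type u := Γ(W.left, ⊤)
  let j : Spec (CommRingCat.of A) ⟶ P.left := P.left.isoSpec.inv
  let q : Spec (CommRingCat.of B) ⟶ W.left := W.left.isoSpec.inv
  let cA : CommRingCat.of R ⟶ CommRingCat.of A := Spec.preimage (j ≫ P.hom)
  letI : Algebra R A := cA.hom.toAlgebra
  letI : Algebra A B := g.left.appTop.hom.toAlgebra
  have hcA : Spec.map (CommRingCat.ofHom (algebraMap R A)) = j ≫ P.hom := Spec.map_preimage _
  have hqj : Spec.map (CommRingCat.ofHom (algebraMap A B)) ≫ j = q ≫ g.left := by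
    show Spec.map g.left.appTop ≫ P.left.isoSpec.inv = W.left.isoSpec.inv ≫ g.left
    exact (Scheme.isoSpec_inv_naturality g.left)
  haveI : Module.Finite R A := RingHom.finite_algebraMap.1 ((IsFinite.SpecMap_iff _).1 (by
    show IsFinite (Spec.map (CommRingCat.ofHom (algebraMap R A)))
    rw [hcA]; infer_instance))
  haveI : Module.Finite A B := RingHom.finite_algebraMap.1 (g.left.finite_appTop)
  have hBspec : Spec.map (CommRingCat.ofHom (algebraMap A B)) = q ≫ g.left ≫ P.left.isoSpec.hom := by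
    rw [← Category.assoc, ← hqj, Category.assoc, Iso.inv_hom_id, Category.comp_id]
  haveI : Algebra.Etale A B := RingHom.etale_algebraMap.1 ((HasRingHomProperty.Spec_iff (P := @Etale)).1 (by
    show Etale (Spec.map (CommRingCat.ofHom (algebraMap A B)))
    rw [hBspec]; infer_instance))
  haveI : Module.FinitePresentation A B := Module.FinitePresentation.of_finite_of_finitePresentation A B
  haveI : Module.Flat A B := Algebra.Smooth.flat A B
  haveI : Module.Projective A B := Module.Flat.projective_of_finitePresentation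
  haveI : Module.FaithfullyFlat A B := by
    refine Module.FaithfullyFlat.of_comap_surjective fun x => ?_
    obtain ⟨w, hw⟩ := hgs.surj (j x)
    refine ⟨W.left.isoSpec.hom w, ?_⟩
    show Spec.map (CommRingCat.ofHom (algebraMap A B)) (W.left.isoSpec.hom w) = x
    rw [hBspec]
    have e : W.left.isoSpec.hom ≫ q ≫ g.left ≫ P.left.isoSpec.hom = g.left ≫ P.left.isoSpec.hom := by simp [q]
    refine (Scheme.Hom.comp_apply _ _ _).symm.trans ?_
    rw [e]
    refine (Scheme.Hom.comp_apply _ _ _).trans ?_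
    erw [hw]
    refine (Scheme.Hom.comp_apply _ _ _).symm.trans ?_
    simp [j]
  let IA : Ideal A := I.map (algebraMap R A)
  haveI : Algebra.IsIntegral R A := Algebra.IsIntegral.of_finite R A
  haveI : HenselianRing A IA := Hens.henselianRing_of_isIntegral
    (Hens.henselianRing_of_le (Hens.henselianRing_maximalIdeal R) (IsLocalRing.le_maximalIdeal hI))
  haveI hetT : ∀ k, Etale (Spec.map (CommRingCat.ofHom (algebraMap A (T A B k))) ≫ j ≫ P.hom) := fun k => by
    haveI := etale_T A B k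
    haveI : Etale (Spec.map (CommRingCat.ofHom (algebraMap A (T A B k)))) :=
      (HasRingHomProperty.Spec_iff (P := @Etale)).2 (RingHom.etale_algebraMap.2 inferInstance)
    haveI : Etale P.hom := P.prop
    infer_instance
  let Ob : ℕ → (Spec (CommRingCat.of R)).Etale := fun k =>
    Scheme.Etale.mk (Spec.map (CommRingCat.ofHom (algebraMap A (T A B k))) ≫ j ≫ P.hom)
  have hleg : ∀ k (i : Fin (k + 1)), Spec.map (CommRingCat.ofHom (leg A B k i).toRingHom) ≫ q ≫ g.left =
      Spec.map (CommRingCat.ofHom (algebraMap A (T A B k))) ≫ j := fun k i => by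
    rw [← hqj, ← Category.assoc, ← Spec.map_comp, ← CommRingCat.ofHom_comp]
    exact congrArg (fun φ : A →+* T A B k => Spec.map (CommRingCat.ofHom φ) ≫ j) (leg A B k i).comp_algebraMap
  let un : ∀ k, Tup g k (Ob k) := fun k =>
    ⟨fun i => MorphismProperty.Over.homMk (Spec.map (CommRingCat.ofHom (leg A B k i).toRingHom) ≫ q) (by
        show (Spec.map _ ≫ q) ≫ W.hom = Spec.map _ ≫ j ≫ P.hom
        rw [← MorphismProperty.Over.w g, Category.assoc, reassoc_of% (hleg k i)]),
      fun i => MorphismProperty.Over.Hom.ext (by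
        show (Spec.map _ ≫ q) ≫ g.left = (Spec.map _ ≫ q) ≫ g.left
        rw [Category.assoc, Category.assoc, hleg k i, hleg k 0])⟩
  let σ : ∀ k, Additive Γ((Ob k).left, ⊤)ˣ →+ Additive (T A B k)ˣ := fun k =>
    uMap (Scheme.ΓSpecIso (CommRingCat.of (T A B k))).hom.hom
  let c' : ∀ (T' : (Spec (CommRingCat.of R)).Etale), Tup g (n + 1) T' → (EtCoh.Gm _).obj.obj (op T') :=
    fun T' x => κ.hom.app (op T') (c.val T' x)
  have hcnat : ∀ {T' T'' : (Spec (CommRingCat.of R)).Etale} (h : T'' ⟶ T') (x : Tup g (n + 1) T'),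
      (EtCoh.Gm _).obj.map h.op (c' T' x) = c' T'' (x.comp h) := fun h x => by
    exact (NatTrans.naturality_apply κ.hom h.op _).symm.trans (congrArg _ (c.nat h x))
  have hckill : ∀ T' x, (EtLim.GmPush u).hom.app (op T') (c' T' x) = 0 := fun T' x =>
    app_zero (kernel.condition (EtLim.GmPush u)) _ _
  let z : Additive (T A B (n + 1))ˣ := σ (n + 1) (toU (c' _ (un (n + 1))))
  have hz : IsCocycle A B z := by
    have h := congrArg (fun s => σ (n + 1 + 1) (toU (κ.hom.app _ s))) (hc _ (un (n + 1 + 1)))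
    simp only [map_zero, Cochain.d, map_sum, map_zsmul] at h
    rw [IsCocycle, ← h]
    refine Finset.sum_congr rfl fun i _ => congrArg _ ?_
    let k : Ob (n + 1 + 1) ⟶ Ob (n + 1) := MorphismProperty.Over.homMk
      (Spec.map (CommRingCat.ofHom (cof A B (n + 1) i).toRingHom)) (by
      show _ ≫ Spec.map _ ≫ j ≫ P.hom = Spec.map _ ≫ j ≫ P.hom
      rw [← Category.assoc, ← Spec.map_comp, ← CommRingCat.ofHom_comp]
      exact congrArg (fun φ : A →+* T A B (n + 1 + 1) => Spec.map (CommRingCat.ofHom φ) ≫ j ≫ P.hom)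
        (cof A B (n + 1) i).comp_algebraMap)
    have hface : (un (n + 1 + 1)).face i = (un (n + 1)).comp k := Subtype.ext (funext fun l => by
      apply MorphismProperty.Over.Hom.ext
      show Spec.map _ ≫ q = Spec.map _ ≫ Spec.map _ ≫ q
      rw [← Category.assoc, ← Spec.map_comp, ← CommRingCat.ofHom_comp]
      exact congrArg (fun φ : B →+* T A B (n + 1 + 1) => Spec.map (CommRingCat.ofHom φ) ≫ q)
        (RingHom.ext fun b => (lift_leg (fun i' => leg A B (n + 1 + 1) (i.succAbove i')) l b).symm))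
    show uMap _ (σ (n + 1) _) = σ (n + 1 + 1) (toU (c' _ ((un (n + 1 + 1)).face i)))
    rw [hface, ← hcnat, toU_map]
    simp only [σ, uMap_uMap]
    refine congrArg (fun φ : Γ((Ob (n + 1)).left, ⊤) →+* T A B (n + 1 + 1) => uMap φ _) ?_
    show (CommRingCat.Hom.hom ((Scheme.ΓSpecIso (CommRingCat.of (T A B (n + 1)))).hom ≫
        CommRingCat.ofHom (cof A B (n + 1) i).toRingHom)) = _
    rw [← Scheme.ΓSpecIso_naturality]
    rfl
  have hz1 : cst A B (A ⧸ IA) (n + 1) z = 0 := by
    let Q : Type u := TS A B (A ⧸ IA) (n + 1)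
    let ι₂ : T A B (n + 1) →+* Q := (Algebra.TensorProduct.includeRight : T A B (n + 1) →ₐ[A] Q).toRingHom
    let ρ : R →+* Q := ι₂.comp ((algebraMap A (T A B (n + 1))).comp (algebraMap R A))
    have hρ : ∀ r ∈ I, ρ r = 0 := fun r hr => by
      show (Algebra.TensorProduct.includeRight : T A B (n + 1) →ₐ[A] Q) (algebraMap A _ (algebraMap R A r)) = 0
      rw [AlgHom.commutes, Algebra.TensorProduct.algebraMap_apply]
      show Ideal.Quotient.mk IA (algebraMap R A r) ⊗ₜ[A] 1 = 0
      rw [Ideal.Quotient.eq_zero_iff_mem.2 (Ideal.mem_map_of_mem _ hr), TensorProduct.zero_tmul]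
    let h₁ : Spec (CommRingCat.of Q) ⟶ (Ob (n + 1)).left := Spec.map (CommRingCat.ofHom ι₂)
    let h₂ : Spec (CommRingCat.of Q) ⟶ Spec (CommRingCat.of (R ⧸ I)) :=
      Spec.map (CommRingCat.ofHom (Ideal.Quotient.lift I ρ hρ))
    have hw : h₁ ≫ (Ob (n + 1)).hom = h₂ ≫ u := by
      show Spec.map (CommRingCat.ofHom ι₂) ≫ Spec.map _ ≫ j ≫ P.hom = Spec.map _ ≫ Spec.map _
      rw [← hcA, ← Spec.map_comp, ← Spec.map_comp, ← Spec.map_comp]
      exact congrArg Spec.map (CommRingCat.hom_ext (RingHom.ext fun r => rfl))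
    have h0 := killed_map u _ (hckill _ (un (n + 1))) h₁ h₂ hw
    have h1 := congrArg (fun s => uMap (Scheme.ΓSpecIso (CommRingCat.of Q)).hom.hom s) h0
    rw [uMap_uMap, uMap_zero] at h1
    refine Eq.trans ?_ h1
    simp only [cst, z, σ, uMap_uMap]
    refine congrArg (fun φ : Γ((Ob (n + 1)).left, ⊤) →+* Q => uMap φ _) ?_
    show CommRingCat.Hom.hom ((Scheme.ΓSpecIso (CommRingCat.of (T A B (n + 1)))).hom ≫ CommRingCat.ofHom ι₂) =
      CommRingCat.Hom.hom (h₁.appTop ≫ (Scheme.ΓSpecIso (CommRingCat.of Q)).hom)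
    rw [Scheme.ΓSpecIso_naturality]
  obtain ⟨b, hb, hb1⟩ := SmoothDesc24.exists_coboundary_henselian IA hz hz1
  let al : ∀ {T' : (Spec (CommRingCat.of R)).Etale} {m : ℕ} (_ : Tup g m T') (_ : Fin (m + 1)),
      T'.left ⟶ Spec (CommRingCat.of B) := fun x i => (x.1 i).left ≫ W.left.isoSpec.hom
  let sA : ∀ {T' : (Spec (CommRingCat.of R)).Etale} {m : ℕ} (_ : Tup g m T'), T'.left ⟶ Spec (CommRingCat.of A) :=
    fun x => (x.1 0 ≫ g).left ≫ P.left.isoSpec.hom
  have hsal : ∀ {T' : (Spec (CommRingCat.of R)).Etale} {m : ℕ} (x : Tup g m T') (i : Fin (m + 1)),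
      al x i ≫ Spec.map (CommRingCat.ofHom (algebraMap A B)) = sA x := fun x i => by
    simp only [al, sA, hBspec, Category.assoc, q, Iso.hom_inv_id_assoc]
    rw [← x.2 i]
    rfl
  have hψ : ∀ (T' : (Spec (CommRingCat.of R)).Etale) (m : ℕ) (x : Tup g m T'),
      ∃ ψ : TS A B A m →+* Γ(T'.left, ⊤),
      (∀ a, ψ (a ⊗ₜ 1) = γ (sA x) a) ∧ ∀ i b, ψ (1 ⊗ₜ leg A B m i b) = γ (al x i) b := fun T' m x =>
    exists_ψ _ (fun i => γ (al x i)) fun i r => by
      have h := congrArg γ (hsal x i)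
      rw [γ_specMap] at h
      exact RingHom.congr_fun h r
  choose ψ hψA hψB using hψ
  have hψnat : ∀ {T' T'' : (Spec (CommRingCat.of R)).Etale} {m : ℕ} (h : T'' ⟶ T') (x : Tup g m T'),
      h.left.appTop.hom.comp (ψ T' m x) = ψ T'' m (x.comp h) := fun {T' T'' m} h x => by
    refine ringHom_ext (fun a => ?_) (fun i b => ?_)
    · rw [RingHom.comp_apply, hψA, hψA, ← RingHom.comp_apply, ← γ_comp]
      exact congrArg (fun f => γ f a) (Category.assoc _ _ _).symm
    · rw [RingHom.comp_apply, hψB, hψB, ← RingHom.comp_apply, ← γ_comp]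
      exact congrArg (fun f => γ f b) (Category.assoc _ _ _).symm
  have hbkill : ∀ T' (x : Tup g n T'), (EtLim.GmPush u).hom.app (op T') (ofU (uMap (ψ T' n x) b)) = 0 := fun T' x => by
    refine GmPush_app_eq_zero u _ ?_
    show uMap _ (uMap (ψ T' n x) b) = 0
    rw [uMap_uMap]
    let φ : TS A B A n →+* Γ(pullback T'.hom u, ⊤) := (pullback.fst T'.hom u).appTop.hom.comp (ψ T' n x)
    let φA : A →+* Γ(pullback T'.hom u, ⊤) := φ.comp (Algebra.TensorProduct.includeLeftRingHom)
    have hA' : ∀ a, φA a = γ (pullback.fst T'.hom u ≫ sA x) a := fun a => by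
      show (pullback.fst T'.hom u).appTop.hom (ψ T' n x (a ⊗ₜ 1)) = _
      rw [hψA, γ_comp]; rfl
    have hkill : ∀ a ∈ IA, φA a = 0 := by
      suffices hle : IA ≤ RingHom.ker φA from fun a ha => hle ha
      refine Ideal.map_le_iff_le_comap.2 fun r hr => ?_
      show φA (algebraMap R A r) = 0
      rw [hA', ← RingHom.comp_apply, ← γ_specMap, hcA]
      have e : (pullback.fst T'.hom u ≫ sA x) ≫ j ≫ P.hom = pullback.snd T'.hom u ≫ u := by
        simp only [sA, j, Category.assoc, Iso.hom_inv_id_assoc]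
        rw [MorphismProperty.Over.w (x.1 0 ≫ g)]
        exact pullback.condition
      rw [e, γ_specMap, RingHom.comp_apply, Ideal.Quotient.eq_zero_iff_mem.2 hr, map_zero]
    have hcomm : ∀ i r, (φ.comp ((Algebra.TensorProduct.includeRight : T A B n →ₐ[A] TS A B A n).toRingHom.comp
        (leg A B n i).toRingHom)) (algebraMap A B r) =
        (Ideal.Quotient.lift IA φA hkill) (algebraMap A (A ⧸ IA) r) := fun i r => by
      show φ (1 ⊗ₜ leg A B n i (algebraMap A B r)) = φA r
      rw [AlgHom.commutes, ← Algebra.TensorProduct.includeRight_apply, AlgHom.commutes]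
      rfl
    obtain ⟨φ', hφ'A, hφ'B⟩ := exists_ψ (Ideal.Quotient.lift IA φA hkill)
      (fun i => φ.comp ((Algebra.TensorProduct.includeRight : T A B n →ₐ[A] TS A B A n).toRingHom.comp
        (leg A B n i).toRingHom)) hcomm
    have hfac : φ = φ'.comp (chg (Ideal.Quotient.mkₐ A IA) n).toRingHom := by
      refine ringHom_ext (fun a => ?_) (fun i b' => ?_)
      · exact ((congrArg φ' (Algebra.TensorProduct.map_tmul _ _ _ _)).trans (hφ'A _)).symm
      · refine ((congrArg φ' (Algebra.TensorProduct.map_tmul _ _ _ _)).trans ?_).symm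
        rw [map_one]
        exact hφ'B i b'
    show uMap φ b = 0
    rw [hfac, ← uMap_uMap, hb1, uMap_zero]
  haveI : Mono κ := inferInstanceAs (Mono (kernel.ι _))
  choose bv hbv using fun T' x => CmpBig24.exists_lift_of_exact κ (EtLim.GmPush u) (kernel.condition _)
    (ShortComplex.exact_of_f_is_kernel _ (kernelIsKernel _)) _ (hbkill T' x)
  let bb : Cochain g (kernel (EtLim.GmPush u)).obj n :=
    { val := bv
      nat := fun {T' T''} h x => CmpBig24.sec_injective κ T'' (by
        rw [NatTrans.naturality_apply, hbv, hbv, map_ofU, uMap_uMap, hψnat]) }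
  refine ⟨bb, fun T' x => CmpBig24.sec_injective κ T' ?_⟩
  have hFc : ∀ i, (ψ T' (n + 1) x).comp (Fc A B A n i).toRingHom = ψ T' n (x.face i) := fun i => by
    refine ringHom_ext (fun a => ?_) (fun l b' => ?_)
    · show ψ T' (n + 1) x (Fc A B A n i (a ⊗ₜ 1)) = _
      rw [hψA, Fc, Algebra.TensorProduct.map_tmul, map_one, AlgHom.id_apply, hψA]
      refine congrArg (fun f => γ f a) ?_
      show (x.1 0 ≫ g).left ≫ _ = (x.1 (i.succAbove 0) ≫ g).left ≫ _
      rw [x.2 (i.succAbove 0)]
    · show ψ T' (n + 1) x (Fc A B A n i (1 ⊗ₜ leg A B n l b')) = _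
      rw [hψB, Fc, Algebra.TensorProduct.map_tmul, map_one, cof, lift_leg, hψB]
      rfl
  have hL : κ.hom.app (op T') (bb.d.val T' x) = ofU (uMap (ψ T' (n + 1) x) (dU A B A n b)) := by
    show κ.hom.app (op T') (∑ i : Fin (n + 2), (-1 : ℤ) ^ (i : ℕ) • bv T' (x.face i)) =
      (ofU (uMap (ψ T' (n + 1) x) (dU A B A n b)) : (EtCoh.Gm _).obj.obj (op T'))
    simp only [dU_apply, map_sum, map_zsmul, uMap_uMap, hFc, hbv]
  rw [hL, hb, cst, uMap_uMap]
  let ρ : T A B (n + 1) →+* Γ(T'.left, ⊤) :=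
    (ψ T' (n + 1) x).comp (Algebra.TensorProduct.includeRight : T A B (n + 1) →ₐ[A] TS A B A (n + 1)).toRingHom
  obtain ⟨h₀, hh₀⟩ := exists_hom_of_ringHom ρ
  have hlegh : ∀ i, h₀ ≫ Spec.map (CommRingCat.ofHom (leg A B (n + 1) i).toRingHom) = al x i := fun i => by
    refine γ_injective ?_
    rw [γ_specMap, hh₀]
    exact RingHom.ext fun b' => hψB T' (n + 1) x i b'
  let h : T' ⟶ Ob (n + 1) := MorphismProperty.Over.homMk h₀ (by
    show h₀ ≫ Spec.map _ ≫ j ≫ P.hom = T'.hom
    rw [← reassoc_of% (hleg (n + 1) 0), reassoc_of% (hlegh 0)]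
    simp only [al, q, Category.assoc, Iso.hom_inv_id_assoc, MorphismProperty.Over.w])
  have hx : x = (un (n + 1)).comp h := Subtype.ext (funext fun i => by
    apply MorphismProperty.Over.Hom.ext
    show _ = h₀ ≫ Spec.map _ ≫ q
    rw [reassoc_of% (hlegh i)]
    simp [al, q])
  show _ = c' T' x
  conv_rhs => rw [hx, ← hcnat, ← ofU_toU ((EtCoh.Gm _).obj.map h.op (c' _ (un (n + 1)))), toU_map]
  refine congrArg ofU ?_
  show uMap ρ z = _
  simp only [z, σ, uMap_uMap, ← hh₀]
  refine congrArg (fun φ : Γ((Ob (n + 1)).left, ⊤) →+* Γ(T'.left, ⊤) => uMap φ _) ?_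
  show CommRingCat.Hom.hom ((Scheme.ΓSpecIso (CommRingCat.of (T A B (n + 1)))).hom ≫
    (Scheme.ΓSpecIso (CommRingCat.of (T A B (n + 1)))).inv ≫ h₀.appTop) = _
  rw [Iso.hom_inv_id_assoc]
  rfl

end Groth.Agent.GmHens24
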